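import Groth.Agent.L05.Henselization.Strict
import Mathlib.RingTheory.Localization.Integral
import Mathlib.RingTheory.Localization.AtPrime.Basic
import Mathlib.RingTheory.Polynomial.ScaleRoots

/-! # A strict henselization as a colimit of etale algebras over a ring with given localization -/

open IsLocalRing Polynomial

set_option linter.style.haveILetI false
set_option linter.unusedSectionVars false

namespace Groth.L27.StalkRpush

open Groth.L05.Henselization

universe u

variable (B : Type u) [CommRing B] (p : Ideal B) [p.IsPrime] (O : Type u) [CommRing O] [IsLocalRing O]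
  [Algebra B O] [IsLocalization.AtPrime O p]

section Field

variable (K : Type u) [Field K] [Algebra B K] [Algebra (ResidueField O) K]
  (hBK : ∀ b : B, algebraMap B K b = algebraMap (ResidueField O) K (residue O (algebraMap B O b)))

include p hBK in
theorem algebraMap_ne_zero {c : B} (hc : c ∉ p) : algebraMap B K c ≠ 0 := by
  rw [hBK]
  exact (IsUnit.map _ ((IsLocalization.map_units O (⟨c, hc⟩ : p.primeCompl)).map (residue O))).ne_zero

include p hBK in
theorem inv_mem_range_ε {c : B} (hc : c ∉ p) : (algebraMap B K c)⁻¹ ∈ Set.range (ε B K) := by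
  have h : ε B K (algebraMap B (Col B K) c) = algebraMap B K c := AlgHom.commutes _ _
  have hu : IsUnit (algebraMap B (Col B K) c) :=
    isUnit_of_isUnit_ε (by rw [h]; exact isUnit_iff_ne_zero.2 (algebraMap_ne_zero B p O K hBK hc))
  refine ⟨↑hu.unit⁻¹, (eq_inv_of_mul_eq_one_left ?_)⟩
  rw [← h, ← map_mul, IsUnit.val_inv_mul, map_one]

include p hBK in
/-- The residue field is reached by etale algebras over `B`. -/
theorem ε_surjective [Algebra.IsSeparable (ResidueField O) K] : Function.Surjective (ε B K) := by
  intro k
  let κ := ResidueField O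
  let q := minpoly κ k
  have hint : IsIntegral κ k := Algebra.IsSeparable.isIntegral κ k
  have hqm : q.Monic := minpoly.monic hint
  obtain ⟨F, hF, -, hFm⟩ := Polynomial.lifts_and_natDegree_eq_and_monic
    (Polynomial.mem_lifts q |>.mpr (Polynomial.map_surjective _ residue_surjective q)) hqm
  obtain ⟨⟨c, hc⟩, hcF⟩ := IsLocalization.exist_integer_multiples p.primeCompl
    (Finset.range (F.natDegree + 1)) F.coeff
  let cO : O := algebraMap B O c
  let cκ : κ := residue O cO
  have hcκ : cκ ≠ 0 := ((IsLocalization.map_units O (⟨c, hc⟩ : p.primeCompl)).map (residue O)).ne_zero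
  have hsc : F.scaleRoots cO ∈ Polynomial.lifts (algebraMap B O) := by
    rw [Polynomial.lifts_iff_coeff_lifts]
    intro i
    rw [coeff_scaleRoots]
    rcases lt_trichotomy i F.natDegree with hi | rfl | hi
    · obtain ⟨b, hb⟩ := hcF i (Finset.mem_range.2 (by omega))
      refine ⟨b * c ^ (F.natDegree - i - 1), ?_⟩
      rw [map_mul, map_pow, hb]
      show c • F.coeff i * algebraMap B O c ^ (F.natDegree - i - 1) = F.coeff i * algebraMap B O c ^ (F.natDegree - i)
      rw [Algebra.smul_def]
      obtain ⟨j, hj⟩ : ∃ j, F.natDegree - i = j + 1 := ⟨F.natDegree - i - 1, by omega⟩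
      rw [hj, Nat.add_sub_cancel, pow_succ']
      ring
    · exact ⟨1, by rw [map_one, hFm.coeff_natDegree, Nat.sub_self, pow_zero, one_mul]⟩
    · exact ⟨0, by rw [map_zero, coeff_eq_zero_of_natDegree_lt hi, zero_mul]⟩
  obtain ⟨G, hG, -, hGm⟩ := Polynomial.lifts_and_natDegree_eq_and_monic hsc ((monic_scaleRoots_iff cO).2 hFm)
  let k' : K := algebraMap B K c * k
  have hk' : k' = algebraMap κ K cκ * k := by simp only [k', hBK]; rfl
  have hmap : G.map ((residue O).comp (algebraMap B O)) = q.scaleRoots cκ := by
    rw [← Polynomial.map_map, hG, map_scaleRoots _ _ _ (by rw [hFm.leadingCoeff, map_one]; exact one_ne_zero), hF]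
  have hroot : aeval k' (q.scaleRoots cκ) = 0 := by
    rw [hk']
    exact scaleRoots_aeval_eq_zero (minpoly.aeval κ k)
  have hint' : IsIntegral κ k' := ⟨_, (monic_scaleRoots_iff cκ).2 hqm, hroot⟩
  have hq' : q.scaleRoots cκ = minpoly κ k' := by
    refine minpoly.unique κ k' ((monic_scaleRoots_iff cκ).2 hqm) hroot fun r hr hr0 => ?_
    have h1 : aeval k (r.scaleRoots cκ⁻¹) = 0 := by
      have := scaleRoots_aeval_eq_zero (r := cκ⁻¹) hr0
      rwa [hk', ← mul_assoc, ← map_mul, inv_mul_cancel₀ hcκ, map_one, one_mul] at this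
    rw [degree_scaleRoots, ← degree_scaleRoots r (s := cκ⁻¹)]
    exact minpoly.min κ k ((monic_scaleRoots_iff _).2 hr) h1
  let P : StandardEtalePair B :=
    { f := G, monic_f := hGm, g := derivative G, cond := ⟨1, 0, 1, by ring⟩ }
  have hev : ∀ H : B[X], aeval k' H = aeval k' (H.map ((residue O).comp (algebraMap B O))) := fun H => by
    rw [aeval_def, aeval_def, eval₂_map]
    congr 1
    exact RingHom.ext hBK
  have hmap' : P.HasMap k' := by
    refine ⟨?_, ?_⟩
    · show aeval k' G = 0
      rw [hev, hmap, hroot]
    · show IsUnit (aeval k' (derivative G))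
      rw [hev, ← Polynomial.derivative_map, hmap, hq', isUnit_iff_ne_zero]
      exact (Algebra.IsSeparable.isSeparable κ k').aeval_derivative_ne_zero (minpoly.aeval _ _)
  obtain ⟨g, hg⟩ := range_ι_of_etale (K := K) (E := P.Ring) (P.lift k' hmap')
  have hx : ε B K (g P.X) = k' := (DFunLike.congr_fun hg P.X).trans (P.lift_X k' hmap')
  obtain ⟨z, hz⟩ := inv_mem_range_ε B p O K hBK hc
  refine ⟨z * g P.X, ?_⟩
  rw [map_mul, hz, hx, inv_mul_cancel_left₀ (algebraMap_ne_zero B p O K hBK hc)]

end Field

variable (R : Type u) [CommRing R] [IsLocalRing R] [Algebra B R] [Algebra O R] [IsScalarTower B O R]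
  [IsLocalHom (algebraMap O R)] [hR : Hensel.IsStrictHenselization O R]

include p hR in
/-- `R` is the colimit of the etale `B`-algebras with a map to its residue field. -/
theorem exists_algEquiv : ∃ e : Col B (ResidueField R) ≃ₐ[B] R,
    (IsScalarTower.toAlgHom B R (ResidueField R)).comp e.toAlgHom = ε B (ResidueField R) := by
  haveI := hR.henselian
  haveI : Algebra.IsSeparable (ResidueField O) (ResidueField R) := hR.isSepClosure.separable
  have hBK : ∀ b : B, algebraMap B (ResidueField R) b =
      algebraMap (ResidueField O) (ResidueField R) (residue O (algebraMap B O b)) := fun b => by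
    show residue R (algebraMap B R b) = residue R (algebraMap O R (algebraMap B O b))
    rw [← IsScalarTower.algebraMap_apply]
  have hsurj := ε_surjective B p O (ResidueField R) hBK
  let C := Col B (ResidueField R)
  haveI : IsLocalRing C := isLocalRing_col B (ResidueField R)
  have hker : RingHom.ker (ε B (ResidueField R)) = maximalIdeal C := by
    haveI := RingHom.ker_isMaximal_of_surjective (ε B (ResidueField R)) hsurj
    exact IsLocalRing.eq_maximalIdeal inferInstance
  haveI : HenselianRing C (maximalIdeal C) := hker ▸ henselianRing_ker_ε hsurj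
  haveI : HenselianLocalRing C := Groth.L05.henselianLocalRing_of_henselianRing
  have hu : ∀ b : p.primeCompl, IsUnit (algebraMap B C b) := fun b => isUnit_of_isUnit_ε (by
    rw [AlgHom.commutes, isUnit_iff_ne_zero]
    exact algebraMap_ne_zero B p O (ResidueField R) hBK b.2)
  let f : O →+* C := IsLocalization.lift hu
  have hfB : ∀ b : B, f (algebraMap B O b) = algebraMap B C b := fun b => IsLocalization.lift_eq hu b
  have hεf : ((ε B (ResidueField R)).toRingHom).comp f = (residue R).comp (algebraMap O R) := by
    refine IsLocalization.ringHom_ext p.primeCompl (RingHom.ext fun b => ?_)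
    show ε B (ResidueField R) (f (algebraMap B O b)) = residue R (algebraMap O R (algebraMap B O b))
    rw [hfB, AlgHom.commutes, ← IsScalarTower.algebraMap_apply]
    rfl
  haveI : IsLocalHom f := ⟨fun x hx => by
    have h1 : IsUnit (residue R (algebraMap O R x)) := by
      rw [show residue R (algebraMap O R x) = ε B (ResidueField R) (f x) from (DFunLike.congr_fun hεf x).symm]
      exact hx.map _
    exact (isUnit_map_iff (algebraMap O R) x).1 ((isUnit_map_iff (residue R) _).1 h1)⟩
  let e₀ : ResidueField C ≃+* (ResidueField R) :=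
    (Ideal.quotEquivOfEq hker.symm).trans (RingHom.quotientKerEquivOfSurjective (f := (ε B (ResidueField R)).toRingHom) hsurj)
  have he₀ : ∀ x : C, e₀ (residue C x) = ε B (ResidueField R) x := fun x => rfl
  obtain ⟨h, ⟨hh, hhr⟩, -⟩ := hR.universal C f e₀.symm.toRingHom (RingHom.ext fun x => by
    obtain ⟨x, rfl⟩ := residue_surjective x
    apply e₀.injective
    show e₀ (e₀.symm (residue R (algebraMap O R x))) = e₀ (residue C (f x))
    rw [e₀.apply_symm_apply, he₀]
    exact (DFunLike.congr_fun hεf x).symm)
  have hhε : ∀ x : R, ε B (ResidueField R) (h x) = residue R x := fun x => by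
    rw [← he₀, hhr]
    exact e₀.apply_symm_apply _
  obtain ⟨g₀, hg, -⟩ := existsUnique_algHom (A := B) (K := (ResidueField R)) (C := R) (maximalIdeal R) (AlgHom.id B _)
  let g : C →ₐ[B] R := g₀
  have hgr : ∀ x : C, residue R (g x) = ε B (ResidueField R) x := fun x => DFunLike.congr_fun hg x
  have h1 : g.toRingHom.comp h = RingHom.id R := by
    refine (hR.universal R (algebraMap O R) (RingHom.id _) (RingHom.id_comp _)).unique
      ⟨?_, fun x => (hgr (h x)).trans (hhε x)⟩ ⟨RingHom.id_comp _, fun x => rfl⟩
    rw [RingHom.comp_assoc, hh]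
    refine IsLocalization.ringHom_ext p.primeCompl (RingHom.ext fun b => ?_)
    show g (f (algebraMap B O b)) = algebraMap O R (algebraMap B O b)
    rw [hfB, AlgHom.commutes, ← IsScalarTower.algebraMap_apply]
  have hhB : ∀ b : B, h (algebraMap B R b) = algebraMap B C b := fun b => by
    rw [IsScalarTower.algebraMap_apply B O R]
    exact (DFunLike.congr_fun hh _).trans (hfB b)
  let hA : R →ₐ[B] C := { h with commutes' := hhB }
  have h2 : hA.comp g = AlgHom.id B C := by
    let τ : (ResidueField R) →ₐ[B] C ⧸ maximalIdeal C :=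
      { e₀.symm.toRingHom with
        commutes' := fun b => by
          apply e₀.injective
          show e₀ (e₀.symm (algebraMap B (ResidueField R) b)) = e₀ (residue C (algebraMap B C b))
          rw [e₀.apply_symm_apply, he₀, AlgHom.commutes] }
    obtain ⟨g₁, -, hu₁⟩ := existsUnique_algHom (A := B) (K := (ResidueField R)) (C := C) (maximalIdeal C) τ
    refine (hu₁ _ (AlgHom.ext fun x => ?_)).trans (hu₁ _ (AlgHom.ext fun x => ?_)).symm
    · apply e₀.injective
      show e₀ (residue C (h (g x))) = e₀ (e₀.symm (ε B (ResidueField R) x : (ResidueField R)))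
      rw [e₀.apply_symm_apply, he₀, hhε, hgr]
    · apply e₀.injective
      show e₀ (residue C x) = e₀ (e₀.symm (ε B (ResidueField R) x))
      rw [e₀.apply_symm_apply, he₀]
  exact ⟨AlgEquiv.ofAlgHom g hA (AlgHom.ext fun x => DFunLike.congr_fun h1 x) h2,
    AlgHom.ext fun x => hgr x⟩

end Groth.L27.StalkRpush
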