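import Groth.Agent.L27.StalkRpush.Main
import Groth.Agent.L27.StalkRpush.Ring
import Groth.Prelude.Def_Hens2
import Mathlib.AlgebraicGeometry.AffineScheme

/-! # The stalk of a higher direct image is the cohomology of the strictly local base change -/

universe u

open CategoryTheory CategoryTheory.Limits AlgebraicGeometry Opposite

set_option backward.isDefEq.respectTransparency.types false
set_option linter.style.haveILetI false
set_option linter.unusedSectionVars false

namespace Groth.L27.StalkRpush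

open Groth.L05.Henselization

section

universe v₁ v₂ v₃ u₁ u₂ u₃

set_option backward.defeqAttrib.useBackward true in
set_option backward.isDefEq.respectTransparency false in
/-- Derived functors of a functor followed by an exact one. -/
theorem nonempty_rightDerived_comp_exact {A : Type u₁} [Category.{v₁} A] [Abelian A] [HasInjectiveResolutions A]
    {C : Type u₂} [Category.{v₂} C] [Abelian C] {E : Type u₃} [Category.{v₃} E] [Abelian E]
    (F : A ⥤ C) [F.Additive] (G : C ⥤ E) [G.Additive] [PreservesFiniteLimits G] [PreservesFiniteColimits G] (n : ℕ) :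
    Nonempty ((F ⋙ G).rightDerived n ≅ F.rightDerived n ⋙ G) := by
  refine ⟨NatIso.ofComponents (fun X => (injectiveResolution X).isoRightDerivedObj (F ⋙ G) n ≪≫
    (((F.mapHomologicalComplex _).obj (injectiveResolution X).cocomplex).sc n).mapHomologyIso G ≪≫
      (G.mapIso ((injectiveResolution X).isoRightDerivedObj F n)).symm) fun {X Y} f => ?_⟩
  let φ := InjectiveResolution.desc f (injectiveResolution Y) (injectiveResolution X)
  have comm := InjectiveResolution.desc_commutes_zero f (injectiveResolution Y) (injectiveResolution X)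
  simp only [Iso.trans_hom, Iso.symm_hom, Functor.mapIso_inv, Category.assoc, Functor.comp_map]
  rw [InjectiveResolution.isoRightDerivedObj_hom_naturality_assoc f (injectiveResolution X)
    (injectiveResolution Y) φ comm (F ⋙ G) n]
  congr 1
  have h := InjectiveResolution.isoRightDerivedObj_inv_naturality f (injectiveResolution X)
    (injectiveResolution Y) φ comm F n
  rw [← Functor.map_comp, h, Functor.map_comp]
  exact ShortComplex.mapHomologyIso_hom_naturality_assoc
    ((HomologicalComplex.shortComplexFunctor C (ComplexShape.up ℕ) n).map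
      ((F.mapHomologicalComplex _).map φ)) G _

end

/-- Degree zero cohomology is the global sections functor. -/
noncomputable def HFZeroIso (Z : Scheme.{u}) : EtCoh.HF Z 0 ≅ EtCore.gsec Z :=
  NatIso.ofComponents (fun F => (LimCoh.secEq F).toAddCommGrpIso)
    fun {F G} φ => AddCommGrpCat.hom_ext (AddMonoidHom.ext fun a => by exact LimCoh.secEq_map φ a)

/-- Homomorphisms out of the constant sheaf. -/
noncomputable abbrev Ψ (Z : Scheme.{u}) : EtCoh.Ab Z ⥤ AddCommGrpCat.{u + 1} :=
  preadditiveCoyoneda.obj (op ((constantSheaf Z.smallEtaleTopology AddCommGrpCat.{u + 1}).obj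
    (AddCommGrpCat.of (ULift.{u + 1} ℤ))))

/-- The derived functors of homomorphisms out of the constant sheaf are cohomology. -/
noncomputable def derivedΨIso (Z : Scheme.{u}) (n : ℕ) : (Ψ Z).rightDerived n ≅ EtCoh.HF Z n :=
  Groth.L15.RightDerivedExt.iso _ n ≪≫ (Iso.refl _ : EtCoh.HF Z n ≅ EtCoh.HF Z n)

/-- Homomorphisms out of the constant sheaf are global sections. -/
noncomputable def ΨIso (Z : Scheme.{u}) : Ψ Z ≅ EtCore.gsec Z :=
  (Ψ Z).rightDerivedZeroIsoSelf.symm ≪≫ derivedΨIso Z 0 ≪≫ HFZeroIso Z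

variable {X S : Scheme.{u}} (f : X ⟶ S) [QuasiCompact f] [QuasiSeparated f]

theorem nonempty_natIso_chart (B : Type u) [CommRing B] (j : Spec (CommRingCat.of B) ⟶ S)
    [IsOpenImmersion j] (K : Type u) [Field K] [IsSepClosed K] [Algebra B K]
    (R : Type u) [CommRing R] [Algebra B R] (e : Col B K ≃ₐ[B] R) (n : ℕ)
    (ξ : Spec (CommRingCat.of K) ⟶ S) (hξ : ξ = bPt B j K)
    (η : Spec (CommRingCat.of R) ⟶ S) (hη : η = toBase B R ≫ j) :
    Nonempty (EtCoh.Rpush f n ⋙ EtCoh.stalk ξ ≅
      EtCoh.pull (pullback.fst f η) ⋙ EtCoh.HF (pullback f η) n) := by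
  subst hξ hη
  let g := pullback.fst f (toBase B R ≫ j)
  let Z := pullback f (toBase B R ≫ j)
  haveI : PreservesFiniteLimits (EtCoh.pull g) := EtSite.preservesFiniteLimits_pull g
  haveI : PreservesFiniteColimits (EtCoh.pull g) :=
    have : PreservesColimitsOfSize.{0, 0} (EtCoh.pull g) := (EtCoh.pullPushAdj g).leftAdjoint_preservesColimits
    PreservesColimitsOfSize.preservesFiniteColimits _
  haveI : PreservesFiniteColimits (EtCoh.stalk (bPt B j K)) := inferInstance
  haveI : (EtCoh.stalk (bPt B j K)).Additive := Functor.additive_of_preserves_binary_products _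
  obtain ⟨e₀⟩ := nonempty_rightDerived_comp_exact (EtCoh.push f) (EtCoh.stalk (bPt B j K)) n
  obtain ⟨T⟩ := nonempty_stalk_push f B j K R e
  have hE : ∀ Q : EtCoh.Ab X, Injective Q → ∀ q : ℕ, 0 < q →
      IsZero (((Ψ Z).rightDerived q).obj ((EtCoh.pull g).obj Q)) := by
    intro Q hQ q hq
    obtain ⟨m, rfl⟩ : ∃ m, q = m + 1 := ⟨q - 1, by omega⟩
    haveI := subsingleton_H_of_injective f B j K R e Q m
    exact (AddCommGrpCat.isZero_of_subsingleton (AddCommGrpCat.of (EtCoh.H Z ((EtCoh.pull g).obj Q) (m + 1)))).of_iso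
      ((derivedΨIso Z (m + 1)).app _)
  exact ⟨e₀.symm ≪≫ RDer.rightDerivedIso (T ≪≫ Functor.isoWhiskerLeft (EtCoh.pull g) (ΨIso Z).symm) n ≪≫
    precompIso (EtCoh.pull g) (Ψ Z) hE n ≪≫ Functor.isoWhiskerLeft (EtCoh.pull g) (derivedΨIso Z n)⟩

/-- The stalk of `R^n f_*` at a geometric point is the cohomology of the strictly local base change. -/
theorem nonempty_natIso (s : S) (R : Type u) [CommRing R] [IsLocalRing R]
    [Algebra (S.presheaf.stalk s) R] [IsLocalHom (algebraMap (S.presheaf.stalk s) R)]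
    [Hensel.IsStrictHenselization (S.presheaf.stalk s) R] [IsSepClosed (IsLocalRing.ResidueField R)] (n : ℕ) :
    Nonempty (EtCoh.Rpush f n ⋙ EtCoh.stalk (Hens2.geomPt S s R) ≅
      EtCoh.pull (pullback.fst f (Hens2.specOf S s R)) ⋙ EtCoh.HF (pullback f (Hens2.specOf S s R)) n) := by
  obtain ⟨V, hV, hsV⟩ : ∃ V : S.Opens, IsAffineOpen V ∧ s ∈ V := by
    obtain ⟨_, ⟨V, hV, rfl⟩, hsV, -⟩ :=
      S.isBasis_affineOpens.exists_subset_of_mem_open (Set.mem_univ s) isOpen_univ
    exact ⟨V, hV, hsV⟩
  letI : Algebra Γ(S, V) (S.presheaf.stalk s) := (S.presheaf.germ V s hsV).hom.toAlgebra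
  haveI : IsLocalization.AtPrime (S.presheaf.stalk s) (hV.primeIdealOf ⟨s, hsV⟩).asIdeal :=
    hV.isLocalization_stalk ⟨s, hsV⟩
  letI : Algebra Γ(S, V) R := ((algebraMap (S.presheaf.stalk s) R).comp (S.presheaf.germ V s hsV).hom).toAlgebra
  haveI : IsScalarTower Γ(S, V) (S.presheaf.stalk s) R := IsScalarTower.of_algebraMap_eq' rfl
  obtain ⟨e, -⟩ := exists_algEquiv Γ(S, V) (hV.primeIdealOf ⟨s, hsV⟩).asIdeal (S.presheaf.stalk s) R
  haveI : IsOpenImmersion hV.fromSpec := inferInstance
  have hη : Hens2.specOf S s R = toBase Γ(S, V) R ≫ hV.fromSpec := by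
    show Spec.map (CommRingCat.ofHom (algebraMap (S.presheaf.stalk s) R)) ≫ S.fromSpecStalk s = _
    rw [← hV.fromSpecStalk_eq_fromSpecStalk hsV]
    show Spec.map (CommRingCat.ofHom (algebraMap (S.presheaf.stalk s) R)) ≫
      Spec.map (S.presheaf.germ V s hsV) ≫ hV.fromSpec = _
    rw [← Spec.map_comp_assoc]
    rfl
  refine nonempty_natIso_chart f Γ(S, V) hV.fromSpec (IsLocalRing.ResidueField R) R e n _ ?_ _ hη
  show Spec.map (CommRingCat.ofHom (IsLocalRing.residue R)) ≫ Hens2.specOf S s R = _
  rw [hη, ← Category.assoc, ← Spec.map_comp, ← CommRingCat.ofHom_comp]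
  rfl

end Groth.L27.StalkRpush
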