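import Groth.Agent.L17.AcyclicMap
import Groth.Agent.L00.RDerLES
import Groth.Prelude.Def_RDer

/-! `R^n (E ⋙ Ψ) ≅ E ⋙ R^n Ψ`, naturally, for exact `E` sending injectives to `Ψ`-acyclic objects. -/

universe w v₁ v₂ v₃ u₁ u₂ u₃

open CategoryTheory CategoryTheory.Limits

set_option backward.defeqAttrib.useBackward true
set_option backward.isDefEq.respectTransparency false
set_option linter.unusedSectionVars false
set_option linter.style.haveILetI false

namespace Groth.L27.StalkRpush

section Homotopy

variable {A : Type u₁} [Category.{v₁} A] [Abelian A] {Y : A} {K L : CochainComplex A ℕ}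
  (ι : (CochainComplex.single₀ A).obj Y ⟶ K) [QuasiIso ι] [hL : ∀ n, Injective (L.X n)]

/-- A map out of a resolution into injectives is null homotopic as soon as it kills the augmentation. -/
noncomputable def homotopyZero (f : K ⟶ L) (h0 : ι.f 0 ≫ f.f 0 = 0) : Homotopy f 0 :=
  let z₀ : K.X 1 ⟶ L.X 0 := (RDer.res_exact₀ K ι).descToInjective (f.f 0) h0
  have hz₀ : K.d 0 1 ≫ z₀ = f.f 0 := (RDer.res_exact₀ K ι).comp_descToInjective _ _
  let z₁ : K.X 2 ⟶ L.X 1 := (RDer.res_exact_succ K ι 0).descToInjective (f.f 1 - z₀ ≫ L.d 0 1) (by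
    rw [Preadditive.comp_sub, reassoc_of% hz₀, HomologicalComplex.Hom.comm, sub_self])
  have hz₁ : K.d 1 2 ≫ z₁ = f.f 1 - z₀ ≫ L.d 0 1 := (RDer.res_exact_succ K ι 0).comp_descToInjective _ _
  Homotopy.mkCoinductive _ z₀ (by rw [hz₀]) z₁ (by rw [hz₁]; abel) fun n ⟨g, g', w⟩ =>
    ⟨(RDer.res_exact_succ K ι (n + 1)).descToInjective (f.f (n + 2) - g' ≫ L.d _ _) (by
      rw [Preadditive.comp_sub, ← HomologicalComplex.Hom.comm, w, Preadditive.add_comp,
        Category.assoc, Category.assoc, HomologicalComplex.d_comp_d, comp_zero]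
      simp), by
      rw [(RDer.res_exact_succ K ι (n + 1)).comp_descToInjective]; abel⟩

/-- Two maps out of a resolution into injectives agreeing on the augmentation are homotopic. -/
noncomputable def homotopyOfAug (f g : K ⟶ L) (h0 : ι.f 0 ≫ f.f 0 = ι.f 0 ≫ g.f 0) : Homotopy f g :=
  Homotopy.equivSubZero.invFun (homotopyZero ι (f - g) (by simp [h0]))

end Homotopy

variable {A : Type u₁} [Category.{v₁} A] [Abelian A] [HasInjectiveResolutions A]
  {B : Type u₂} [Category.{v₂} B] [Abelian B] [HasInjectiveResolutions B]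
  {C : Type u₃} [Category.{v₃} C] [Abelian C]
  (E : A ⥤ B) [E.Additive] [PreservesFiniteLimits E] [PreservesFiniteColimits E]
  (Ψ : B ⥤ C) [Ψ.Additive]

instance quasiIso_mapAug {X : A} (I : InjectiveResolution X) : QuasiIso (RDer.mapAug E I.ι) := by
  haveI : E.PreservesHomology := inferInstance
  haveI := HomologicalComplex.quasiIso_map_of_preservesHomology I.ι E
  dsimp only [RDer.mapAug]
  infer_instance

theorem mapAug_f_zero {X : A} (I : InjectiveResolution X) :
    (RDer.mapAug E I.ι).f 0 = E.map (I.ι.f 0) := by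
  simp [RDer.mapAug, HomologicalComplex.singleMapHomologicalComplex]

/-- The comparison of the mapped resolution with the chosen one. -/
noncomputable abbrev cmpRes (X : A) :
    (E.mapHomologicalComplex _).obj (injectiveResolution X).cocomplex ⟶
      (injectiveResolution (E.obj X)).cocomplex :=
  RDer.descToInjectives (𝟙 (E.obj X)) _ (RDer.mapAug E (injectiveResolution X).ι)
    (injectiveResolution (E.obj X)).cocomplex (injectiveResolution (E.obj X)).ι

theorem aug_cmpRes (X : A) : E.map ((injectiveResolution X).ι.f 0) ≫ (cmpRes E X).f 0 =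
    (injectiveResolution (E.obj X)).ι.f 0 := by
  rw [← mapAug_f_zero]
  exact (RDer.ι_descToInjectives_f_zero _ _ _ _ _).trans (Category.id_comp _)

theorem quasiIso_cmpRes (X : A) : QuasiIso (cmpRes E X) := by
  have h : RDer.mapAug E (injectiveResolution X).ι ≫ cmpRes E X = (injectiveResolution (E.obj X)).ι :=
    CochainComplex.fromSingle₀Equiv _ _ |>.injective (Subtype.ext
      ((congrArg (· ≫ (cmpRes E X).f 0) (mapAug_f_zero E _)).trans (aug_cmpRes E X)))
  haveI : QuasiIso (RDer.mapAug E (injectiveResolution X).ι ≫ cmpRes E X) := by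
    rw [h]; infer_instance
  exact quasiIso_of_comp_left (RDer.mapAug E (injectiveResolution X).ι) (cmpRes E X)

/-- The canonical natural transformation `R^n (E ⋙ Ψ) ⟶ E ⋙ R^n Ψ`. -/
noncomputable def precompHom (n : ℕ) : (E ⋙ Ψ).rightDerived n ⟶ E ⋙ Ψ.rightDerived n where
  app X := RDer.precompExact E Ψ n X
  naturality X Y f := by
    let g := InjectiveResolution.desc f (injectiveResolution Y) (injectiveResolution X)
    let g' := InjectiveResolution.desc (E.map f) (injectiveResolution (E.obj Y))
      (injectiveResolution (E.obj X))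
    have hg : (injectiveResolution X).ι.f 0 ≫ g.f 0 = f ≫ (injectiveResolution Y).ι.f 0 :=
      InjectiveResolution.desc_commutes_zero f _ _
    have hg' : (injectiveResolution (E.obj X)).ι.f 0 ≫ g'.f 0 =
        E.map f ≫ (injectiveResolution (E.obj Y)).ι.f 0 :=
      InjectiveResolution.desc_commutes_zero (E.map f) _ _
    have hh : Homotopy ((E.mapHomologicalComplex _).map g ≫ cmpRes E Y) (cmpRes E X ≫ g') :=
      homotopyOfAug (RDer.mapAug E (injectiveResolution X).ι) _ _ (by
        rw [mapAug_f_zero]
        simp only [HomologicalComplex.comp_f, Functor.mapHomologicalComplex_map_f]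
        rw [← Functor.map_comp_assoc, hg, Functor.map_comp_assoc, aug_cmpRes,
          ← Category.assoc (E.map ((injectiveResolution X).ι.f 0)), aug_cmpRes, hg'])
    dsimp only [RDer.precompExact, Functor.comp_map, HomologicalComplex.homologyFunctor_map]
    rw [InjectiveResolution.isoRightDerivedObj_hom_naturality_assoc f _ _ g hg (E ⋙ Ψ) n]
    simp only [Category.assoc]
    rw [InjectiveResolution.isoRightDerivedObj_inv_naturality (E.map f) _ _ g' hg' Ψ n]
    refine congrArg (_ ≫ ·) ?_
    simp only [Functor.comp_map, HomologicalComplex.homologyFunctor_map]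
    rw [← HomologicalComplex.homologyMap_comp_assoc, ← HomologicalComplex.homologyMap_comp_assoc]
    refine congrArg (· ≫ _) ?_
    refine Eq.trans ?_ (((Ψ.mapHomotopy hh).homologyMap_eq n).trans ?_)
    · rw [Functor.map_comp]; rfl
    · rw [Functor.map_comp]

variable [EnoughInjectives B] [PreservesFiniteLimits Ψ]
  (hE : ∀ Q : A, Injective Q → ∀ q : ℕ, 0 < q → IsZero ((Ψ.rightDerived q).obj (E.obj Q)))

include hE in
theorem isIso_precompExact (n : ℕ) (X : A) : IsIso (RDer.precompExact E Ψ n X) := by
  let := HasDerivedCategory.standard B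
  haveI := quasiIso_cmpRes E X
  let f := HomologicalComplex.extendMap (cmpRes E X) ComplexShape.embeddingUpNat
  haveI : QuasiIso f := (HomologicalComplex.quasiIso_extendMap_iff _ _).2 inferInstance
  have hz : ∀ (Q : B), IsZero Q → Groth.L17.GrothSS.RAcyclic Ψ Q := fun Q h =>
    Groth.L17.GrothSS.rAcyclic_of_isZero Ψ h
  have hA : ∀ i : ℤ, Groth.L17.GrothSS.RAcyclic Ψ
      ((((E.mapHomologicalComplex _).obj (injectiveResolution X).cocomplex).extend
        ComplexShape.embeddingUpNat).X i) := fun i q hq => by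
    by_cases hi : ∃ k : ℕ, (k : ℤ) = i
    · obtain ⟨k, rfl⟩ := hi
      exact (hE _ ((injectiveResolution X).injective k) q hq).of_iso
        ((Ψ.rightDerived q).mapIso (HomologicalComplex.extendXIso _ ComplexShape.embeddingUpNat rfl))
    · exact hz _ (HomologicalComplex.isZero_extend_X _ _ _ fun k hk => hi ⟨k, hk⟩) q hq
  have hB : ∀ i : ℤ, Groth.L17.GrothSS.RAcyclic Ψ
      (((injectiveResolution (E.obj X)).cocomplex.extend ComplexShape.embeddingUpNat).X i) := fun i q hq => by
    obtain ⟨k, rfl⟩ : ∃ k, q = k + 1 := ⟨q - 1, by omega⟩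
    haveI : Injective (((injectiveResolution (E.obj X)).cocomplex.extend
        ComplexShape.embeddingUpNat).X i) := inferInstanceAs
      (Injective ((injectiveResolution (E.obj X)).cochainComplex.X i))
    exact Ψ.isZero_rightDerived_obj_injective_succ k _
  haveI hS := Groth.L17.GrothSS.quasiIso_map Ψ f 0 0 hA hB
  haveI : QuasiIso ((Ψ.mapHomologicalComplex _).map (cmpRes E X)) := by
    rw [← HomologicalComplex.quasiIso_extendMap_iff _ ComplexShape.embeddingUpNat]
    exact (quasiIso_iff_of_arrow_mk_iso _ _ (Arrow.isoMk (Groth.L17.GrothSS.mapExtendIso Ψ _ _)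
      (Groth.L17.GrothSS.mapExtendIso Ψ _ _)
      (Groth.L00.RDerLES.mapExtendIso_naturality Ψ (cmpRes E X) ComplexShape.embeddingUpNat).symm)).1 hS
  unfold RDer.precompExact
  haveI h : IsIso (HomologicalComplex.homologyMap ((Ψ.mapHomologicalComplex _).map (cmpRes E X)) n) :=
    inferInstance
  haveI : IsIso ((HomologicalComplex.homologyFunctor C (ComplexShape.up ℕ) n).map
      ((Ψ.mapHomologicalComplex _).map (cmpRes E X))) := h
  exact IsIso.comp_isIso'
    ((injectiveResolution X).isoRightDerivedObj (E ⋙ Ψ) n).isIso_hom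
    (IsIso.comp_isIso' this ((injectiveResolution (E.obj X)).isoRightDerivedObj Ψ n).isIso_inv)

/-- Derived functors of an exact functor followed by a left exact one. -/
noncomputable def precompIso (n : ℕ) : (E ⋙ Ψ).rightDerived n ≅ E ⋙ Ψ.rightDerived n :=
  haveI : ∀ X, IsIso ((precompHom E Ψ n).app X) := fun X => isIso_precompExact E Ψ hE n X
  haveI : IsIso (precompHom E Ψ n) := NatIso.isIso_of_isIso_app _
  asIso (precompHom E Ψ n)

end Groth.L27.StalkRpush
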