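import Groth.Agent.L27.EtSite.Points
import Groth.Agent.L05.Henselization.Colimit
import Mathlib.AlgebraicGeometry.Morphisms.Etale
import Mathlib.AlgebraicGeometry.Sites.EtalePoint
import Mathlib.CategoryTheory.Filtered.Basic

/-! # Affine etale neighbourhoods coming from etale algebras over an affine open -/

universe u

open CategoryTheory CategoryTheory.Limits AlgebraicGeometry Opposite

set_option backward.isDefEq.respectTransparency.types false
set_option linter.style.haveILetI false
set_option linter.unusedSectionVars false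

namespace Groth.L27.StalkRpush

open Groth.L05.Henselization

variable {S : Scheme.{u}} (B : Type u) [CommRing B] (j : Spec (CommRingCat.of B) ⟶ S) [IsOpenImmersion j]
  (K : Type u) [Field K] [IsSepClosed K] [Algebra B K]

/-- The indices. -/
abbrev Idx : Type u := (Obj B K)ᵒᵖ

/-- The structure map of an etale `B`-algebra. -/
noncomputable abbrev toBase (A : Type u) [CommRing A] [Algebra B A] :
    Spec (CommRingCat.of A) ⟶ Spec (CommRingCat.of B) :=
  Spec.map (CommRingCat.ofHom (algebraMap B A))

theorem etale_toBase (A : Type u) [CommRing A] [Algebra B A] [Algebra.Etale B A] : Etale (toBase B A) := by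
  rw [HasRingHomProperty.Spec_iff (P := @Etale)]
  exact RingHom.etale_algebraMap.2 inferInstance

theorem map_toBase {A A' : Type u} [CommRing A] [Algebra B A] [CommRing A'] [Algebra B A'] (φ : A →ₐ[B] A') :
    Spec.map (CommRingCat.ofHom φ.toRingHom) ≫ toBase B A = toBase B A' := by
  rw [← Spec.map_comp, ← CommRingCat.ofHom_comp]
  exact congrArg (fun g => Spec.map (CommRingCat.ofHom g)) φ.comp_algebraMap

theorem etale_str (A : Type u) [CommRing A] [Algebra B A] [Algebra.Etale B A] : Etale (toBase B A ≫ j) := by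
  haveI := etale_toBase B A
  infer_instance

/-- The affine etale scheme of an index. -/
noncomputable def nbObj (X : Idx B K) : S.Etale :=
  @Scheme.Etale.mk S (Spec (CommRingCat.of X.unop.R)) (toBase B X.unop.R ≫ j) (etale_str B j X.unop.R)

/-- The transition maps. -/
noncomputable abbrev trans {X Y : Idx B K} (g : X ⟶ Y) :
    Spec (CommRingCat.of X.unop.R) ⟶ Spec (CommRingCat.of Y.unop.R) :=
  Spec.map (CommRingCat.ofHom g.unop.1.toRingHom)

theorem trans_str {X Y : Idx B K} (g : X ⟶ Y) :
    trans B K g ≫ toBase B Y.unop.R ≫ j = toBase B X.unop.R ≫ j := by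
  rw [← Category.assoc]
  exact congrArg (· ≫ j) (map_toBase B g.unop.1)

/-- The affine etale schemes of the indices, as a functor. -/
noncomputable def nb : Idx B K ⥤ S.Etale where
  obj X := nbObj B j K X
  map g := MorphismProperty.Over.homMk (trans B K g) (trans_str B j K g)
  map_id X := MorphismProperty.Over.Hom.ext (Spec.map_id (CommRingCat.of X.unop.R))
  map_comp g h := MorphismProperty.Over.Hom.ext
    (Spec.map_comp (CommRingCat.ofHom h.unop.1.toRingHom) (CommRingCat.ofHom g.unop.1.toRingHom))

/-- The geometric point. -/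
noncomputable abbrev bPt : Spec (CommRingCat.of K) ⟶ S := toBase B K ≫ j

/-- The distinguished element of the fibre. -/
noncomputable def pt (X : Idx B K) : (Scheme.pointSmallEtale (bPt B j K)).fiber.obj ((nb B j K).obj X) :=
  Over.homMk (Spec.map (CommRingCat.ofHom X.unop.φ.toRingHom))
    ((Category.assoc _ _ _).symm.trans (congrArg (· ≫ j) (map_toBase B X.unop.φ)))

theorem map_pt {X Y : Idx B K} (g : X ⟶ Y) :
    (Scheme.pointSmallEtale (bPt B j K)).fiber.map ((nb B j K).map g) (pt B j K X) = pt B j K Y := by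
  apply Over.OverMorphism.ext
  show Spec.map (CommRingCat.ofHom X.unop.φ.toRingHom) ≫ trans B K g = Spec.map (CommRingCat.ofHom Y.unop.φ.toRingHom)
  rw [← Spec.map_comp, ← CommRingCat.ofHom_comp]
  exact congrArg (fun q => Spec.map (CommRingCat.ofHom q)) (congrArg AlgHom.toRingHom g.unop.2)

/-- Every neighbourhood is dominated by an affine one. -/
theorem exists_dom (U : S.Etale) (y : (Scheme.pointSmallEtale (bPt B j K)).fiber.obj U) :
    ∃ (X : Idx B K) (m : (nb B j K).obj X ⟶ U),
      (Scheme.pointSmallEtale (bPt B j K)).fiber.map m (pt B j K X) = y := by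
  haveI : Etale U.hom := U.prop
  let Z := pullback U.hom j
  let z : Spec (CommRingCat.of K) ⟶ Z := pullback.lift y.left (toBase B K) (Over.w y)
  obtain ⟨W, hW, hzW⟩ : ∃ W : Z.Opens, IsAffineOpen W ∧ z default ∈ W := by
    obtain ⟨_, ⟨W, hW, rfl⟩, hzW, -⟩ :=
      Z.isBasis_affineOpens.exists_subset_of_mem_open (Set.mem_univ (z default)) isOpen_univ
    exact ⟨W, hW, hzW⟩
  haveI : IsAffine W.toScheme := hW
  have hr : Set.range z ⊆ Set.range W.ι := by
    rintro _ ⟨a, rfl⟩
    rw [Scheme.Opens.range_ι, Subsingleton.elim a default]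
    exact hzW
  let wl := IsOpenImmersion.lift W.ι z hr
  let E : CommRingCat.{u} := Γ(W.toScheme, ⊤)
  let ι := W.toScheme.isoSpec.inv ≫ W.ι
  obtain ⟨φ, hφ⟩ := Spec.map_surjective (ι ≫ pullback.snd U.hom j)
  letI : Algebra B E := φ.hom.toAlgebra
  have hE : toBase B E = ι ≫ pullback.snd U.hom j := hφ
  haveI : Algebra.Etale B E := by
    haveI : Etale (Spec.map φ) := hφ ▸ inferInstance
    exact RingHom.etale_algebraMap.1 ((HasRingHomProperty.Spec_iff (P := @Etale)).1 this)
  obtain ⟨ψ, hψ⟩ := Spec.map_surjective (wl ≫ W.toScheme.isoSpec.hom)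
  have hψι : Spec.map ψ ≫ ι = z := by
    rw [hψ, Category.assoc, Iso.hom_inv_id_assoc]
    exact IsOpenImmersion.lift_fac _ _ _
  have hψB : φ ≫ ψ = CommRingCat.ofHom (algebraMap B K) := by
    apply Spec.map_injective
    rw [Spec.map_comp, hφ, reassoc_of% hψι]
    exact pullback.lift_snd _ _ _
  let ψa : (E : Type u) →ₐ[B] K := { ψ.hom with commutes' := fun b => congr($(hψB).hom b) }
  obtain ⟨X, e, he⟩ := Obj.exists_obj (A := B) (K := K) E ψa
  let q : Spec (CommRingCat.of X.R) ⟶ U.left :=
    Spec.map (CommRingCat.ofHom e.toAlgHom.toRingHom) ≫ ι ≫ pullback.fst U.hom j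
  refine ⟨op X, MorphismProperty.Over.homMk q ?_, Over.OverMorphism.ext ?_⟩
  · show q ≫ U.hom = toBase B X.R ≫ j
    simp only [q, Category.assoc]
    rw [pullback.condition, ← reassoc_of% (map_toBase B e.toAlgHom), hE, Category.assoc]
    rfl
  · show Spec.map (CommRingCat.ofHom X.φ.toRingHom) ≫ q = y.left
    simp only [q]
    have h1 : Spec.map (CommRingCat.ofHom X.φ.toRingHom) ≫ Spec.map (CommRingCat.ofHom e.toAlgHom.toRingHom) =
        Spec.map ψ := by
      rw [← Spec.map_comp, ← CommRingCat.ofHom_comp]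
      exact congrArg (fun g => Spec.map (CommRingCat.ofHom g)) (congrArg AlgHom.toRingHom he)
    rw [reassoc_of% h1, reassoc_of% hψι]
    exact pullback.lift_fst _ _ _

/-- Neighbourhood morphisms between indices preserving the point are transitions. -/
theorem exists_map {X Y : Idx B K} (m : (nb B j K).obj X ⟶ (nb B j K).obj Y)
    (h : (Scheme.pointSmallEtale (bPt B j K)).fiber.map m (pt B j K X) = pt B j K Y) :
    ∃ g : X ⟶ Y, (nb B j K).map g = m := by
  obtain ⟨φ, hφ⟩ := Spec.map_surjective (show Spec (CommRingCat.of X.unop.R) ⟶ Spec (CommRingCat.of Y.unop.R) from m.left)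
  have hB : CommRingCat.ofHom (algebraMap B Y.unop.R) ≫ φ = CommRingCat.ofHom (algebraMap B X.unop.R) := by
    apply Spec.map_injective
    rw [Spec.map_comp, hφ, ← cancel_mono j]
    exact (Category.assoc _ _ _).trans (MorphismProperty.Over.w m)
  have hK : φ ≫ CommRingCat.ofHom X.unop.φ.toRingHom = CommRingCat.ofHom Y.unop.φ.toRingHom := by
    apply Spec.map_injective
    rw [Spec.map_comp, hφ]
    exact congrArg (fun a => a.left) h
  let g₀ : Y.unop.R →ₐ[B] X.unop.R := { φ.hom with commutes' := fun b => congr($(hB).hom b) }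
  let g₁ : Y.unop ⟶ X.unop := ⟨g₀, AlgHom.ext fun b => congr($(hK).hom b)⟩
  exact ⟨g₁.op, MorphismProperty.Over.Hom.ext hφ⟩

end Groth.L27.StalkRpush
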