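import Groth.Agent.L27.EtSite.Points
import Mathlib.CategoryTheory.Limits.FunctorCategory.Basic
import Mathlib.CategoryTheory.Limits.Types.Filtered
import Mathlib.Algebra.Category.Grp.Colimits

/-! # Two receivers of a filtered system of functors computing its colimit agree -/

universe u v w

open CategoryTheory CategoryTheory.Limits Opposite

set_option linter.style.haveILetI false

namespace Groth.L27.StalkRpush

variable {J : Type u} [SmallCategory J] [IsFiltered J] {E : Type w} [Category.{v} E]
  {G : J ⥤ E ⥤ AddCommGrpCat.{u + 1}}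

/-- A cocone computing the colimit elementwise. -/
structure Computes (c : Cocone G) : Prop where
  surj : ∀ (e : E) (y : c.pt.obj e), ∃ (i : J) (z : (G.obj i).obj e), (c.ι.app i).app e z = y
  zero : ∀ (e : E) (i : J) (z : (G.obj i).obj e), (c.ι.app i).app e z = 0 →
    ∃ (k : J) (f : i ⟶ k), (G.map f).app e z = 0

theorem Computes.isIso_desc {c : Cocone G} (hc : Computes c) : IsIso (colimit.desc G c) := by
  haveI : ∀ e, IsIso ((colimit.desc G c).app e) := fun e => by
    rw [ConcreteCategory.isIso_iff_bijective]
    let t := ((evaluation E AddCommGrpCat.{u + 1}).obj e).mapCocone (colimit.cocone G)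
    have ht : IsColimit t := isColimitOfPreserves _ (colimit.isColimit G)
    have hfac : ∀ (i : J) (z : (G.obj i).obj e),
        (colimit.desc G c).app e ((colimit.ι G i).app e z) = (c.ι.app i).app e z := fun i z =>
      congr($(congrArg (fun (a : G.obj i ⟶ c.pt) => a.app e) (colimit.ι_desc c i)) z)
    refine ⟨(injective_iff_map_eq_zero ((colimit.desc G c).app e).hom).2 fun x hx => ?_, fun y => ?_⟩
    · obtain ⟨i, z, rfl⟩ := Types.jointly_surjective_of_isColimit (isColimitOfPreserves (forget AddCommGrpCat) ht) x
      obtain ⟨k, f, hk⟩ := hc.zero e i z ((hfac i z).symm.trans hx)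
      show (colimit.ι G i).app e z = 0
      rw [← colimit.w G f]
      show (colimit.ι G k).app e ((G.map f).app e z) = 0
      rw [hk, map_zero]
    · obtain ⟨i, z, rfl⟩ := hc.surj e y
      exact ⟨_, hfac i z⟩
  exact NatIso.isIso_of_isIso_app _

/-- Two receivers computing the colimit are isomorphic. -/
theorem Computes.nonempty_iso {c c' : Cocone G} (hc : Computes c) (hc' : Computes c') :
    Nonempty (c.pt ≅ c'.pt) :=
  haveI := hc.isIso_desc
  haveI := hc'.isIso_desc
  ⟨(asIso (colimit.desc G c)).symm ≪≫ asIso (colimit.desc G c')⟩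

end Groth.L27.StalkRpush
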