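import Groth.Agent.L27.LimCoh.StageSys
import Groth.Agent.L27.ExtZero.Restr

/-! # Global sections of an inverse image coming from a factorisation through an etale scheme -/

universe u

open CategoryTheory CategoryTheory.Limits AlgebraicGeometry Opposite

set_option backward.isDefEq.respectTransparency.types false
set_option linter.style.haveILetI false
set_option linter.unusedSectionVars false

namespace Groth.L27.StalkRpush

open Groth.L27.LimCoh

variable {X Y Z : Scheme.{u}}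

theorem pvia_w (t : Y ⟶ X) {T : X.Etale} {r : Y ⟶ T.left} (h : r ≫ T.hom = t) :
    r ≫ T.hom = (EtCoh.top Y).hom ≫ t :=
  h.trans (Category.id_comp t).symm

/-- The global section of the inverse image attached to a section over `T` and a map to `T`. -/
noncomputable def pvia (t : Y ⟶ X) (F : EtCoh.Ab X) {T : X.Etale} (r : Y ⟶ T.left) (h : r ≫ T.hom = t) :
    F.obj.obj (op T) ⟶ ((EtCoh.pull t).obj F).obj.obj (op (EtCoh.top Y)) :=
  ((EtCoh.pullPushAdj t).unit.app F).hom.app (op T) ≫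
    ((EtCoh.pull t).obj F).obj.map (LimCoh.lift t (T := EtCoh.top Y) r (pvia_w t h)).op

theorem pvia_apply (t : Y ⟶ X) (F : EtCoh.Ab X) {T : X.Etale} (r : Y ⟶ T.left) (h : r ≫ T.hom = t)
    (x : F.obj.obj (op T)) :
    pvia t F r h x = ((EtCoh.pull t).obj F).obj.map (LimCoh.lift t (T := EtCoh.top Y) r (pvia_w t h)).op
      (((EtCoh.pullPushAdj t).unit.app F).hom.app (op T) x) := rfl

theorem pushVia_map (t : Y ⟶ X) {F : EtCoh.Ab X} {G : EtCoh.Ab Y} (a : F ⟶ (EtCoh.push t).obj G)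
    {T T' : X.Etale} (m : T' ⟶ T) (U : Y.Etale) (l' : U ⟶ (EtCoh.bc t).obj T') (l : U ⟶ (EtCoh.bc t).obj T)
    (e : l' ≫ (EtCoh.bc t).map m = l) :
    F.obj.map m.op ≫ a.hom.app (op T') ≫ G.obj.map l'.op = a.hom.app (op T) ≫ G.obj.map l.op := by
  subst e
  refine (Category.assoc _ _ _).symm.trans ((congrArg (· ≫ G.obj.map l'.op) (a.hom.naturality m.op)).trans ?_)
  exact (Category.assoc _ _ _).trans (congrArg (a.hom.app (op T) ≫ ·)
    (G.obj.map_comp ((EtCoh.bc t).map m).op l'.op).symm)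

theorem pushVia_natural (t : Y ⟶ X) {F F' : EtCoh.Ab X} {G G' : EtCoh.Ab Y} (a : F ⟶ (EtCoh.push t).obj G)
    (a' : F' ⟶ (EtCoh.push t).obj G') (φ : F ⟶ F') (ψ : G ⟶ G') (e : φ ≫ a' = a ≫ (EtCoh.push t).map ψ)
    (T : X.Etale) (U : Y.Etale) (l : U ⟶ (EtCoh.bc t).obj T) :
    φ.hom.app (op T) ≫ a'.hom.app (op T) ≫ G'.obj.map l.op =
      (a.hom.app (op T) ≫ G.obj.map l.op) ≫ ψ.hom.app (op U) := by
  have he : φ.hom.app (op T) ≫ a'.hom.app (op T) = a.hom.app (op T) ≫ ψ.hom.app (op ((EtCoh.bc t).obj T)) :=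
    congrArg (fun b => b.hom.app (op T)) e
  refine (Category.assoc _ _ _).symm.trans ((congrArg (· ≫ G'.obj.map l.op) he).trans ?_)
  exact (Category.assoc _ _ _).trans ((congrArg (a.hom.app (op T) ≫ ·) (ψ.hom.naturality l.op).symm).trans
    (Category.assoc _ _ _).symm)

theorem pvia_map (t : Y ⟶ X) (F : EtCoh.Ab X) {T T' : X.Etale} (m : T' ⟶ T) (r : Y ⟶ T.left)
    (h : r ≫ T.hom = t) (r' : Y ⟶ T'.left) (h' : r' ≫ T'.hom = t) (e : r' ≫ m.left = r) :
    F.obj.map m.op ≫ pvia t F r' h' = pvia t F r h := by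
  refine pushVia_map t (F := F) (G := (EtCoh.pull t).obj F) ((EtCoh.pullPushAdj t).unit.app F) m (EtCoh.top Y)
    (LimCoh.lift t (T := EtCoh.top Y) r' (pvia_w t h')) (LimCoh.lift t (T := EtCoh.top Y) r (pvia_w t h))
    (bc_hom_ext t ?_)
  refine Eq.trans ?_ (lift_fstB t (T := EtCoh.top _) r (pvia_w t h)).symm
  have h1 : ((EtCoh.bc t).map m).left ≫ fstB t T = fstB t T' ≫ m.left := fstB_nat t m
  have h2 : (LimCoh.lift t (T := EtCoh.top Y) r' (pvia_w t h')).left ≫ fstB t T' = r' :=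
    lift_fstB t (T := EtCoh.top _) r' (pvia_w t h')
  show ((LimCoh.lift t (T := EtCoh.top Y) r' (pvia_w t h')).left ≫ ((EtCoh.bc t).map m).left) ≫ fstB t T = r
  rw [Category.assoc, h1, ← Category.assoc, h2]; exact e

theorem pvia_natural (t : Y ⟶ X) {F G : EtCoh.Ab X} (φ : F ⟶ G) {T : X.Etale} (r : Y ⟶ T.left)
    (h : r ≫ T.hom = t) :
    φ.hom.app (op T) ≫ pvia t G r h = pvia t F r h ≫ ((EtCoh.pull t).map φ).hom.app (op (EtCoh.top Y)) :=
  pushVia_natural t ((EtCoh.pullPushAdj t).unit.app F) ((EtCoh.pullPushAdj t).unit.app G) φ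
    ((EtCoh.pull t).map φ) ((EtCoh.pullPushAdj t).unit.naturality φ) T (EtCoh.top Y)
    (LimCoh.lift t (T := EtCoh.top Y) r (pvia_w t h))

/-- Sections over an etale scheme are the global sections of the inverse image on it. -/
theorem bijective_pvia {T : X.Etale} (t : Y ⟶ X) [Etale t] [EtShriek.JCont t] (F : EtCoh.Ab X)
    (r : Y ⟶ T.left) [IsIso r] (h : r ≫ T.hom = t) : Function.Bijective (pvia t F r h) := by
  let m : (EtShriek.compEtale t).obj (EtCoh.top Y) ⟶ T :=
    MorphismProperty.Over.homMk r (h.trans (Category.id_comp t).symm)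
  obtain ⟨ir, hir, hir'⟩ : ∃ ir : T.left ⟶ Y, r ≫ ir = 𝟙 Y ∧ ir ≫ r = 𝟙 T.left :=
    ⟨inv r, IsIso.hom_inv_id r, IsIso.inv_hom_id r⟩
  have hm : IsIso m := by
    let n : T ⟶ (EtShriek.compEtale t).obj (EtCoh.top Y) :=
      MorphismProperty.Over.homMk ir (by
        show ir ≫ (𝟙 Y ≫ t) = T.hom
        rw [Category.id_comp, ← h, ← Category.assoc, hir', Category.id_comp])
    refine ⟨n, MorphismProperty.Over.Hom.ext ?_, MorphismProperty.Over.Hom.ext ?_⟩
    · exact hir
    · exact hir'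
  have key : ∀ x, ((ExtZero.pullRestr t).hom.app F).hom.app (op (EtCoh.top Y)) (pvia t F r h x) =
      F.obj.map m.op x := fun x => by
    refine (NatTrans.naturality_apply ((ExtZero.pullRestr t).hom.app F).hom
      (LimCoh.lift t (T := EtCoh.top Y) r (pvia_w t h)).op _).trans ?_
    refine (congrArg _ (ExtZero.pullRestr_unit_app t F T x)).trans ?_
    refine (Functor.map_comp_apply F.obj _ _ _).symm.trans ?_
    exact congrArg (fun l => F.obj.map (Quiver.Hom.op l) x)
      (MorphismProperty.Over.Hom.ext (LimCoh.lift_fstB t (T := EtCoh.top _) r (pvia_w t h)))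
  have h1 : IsIso (((ExtZero.pullRestr t).hom.app F).hom.app (op (EtCoh.top Y))) :=
    inferInstanceAs (IsIso (((sheafToPresheaf _ _).map ((ExtZero.pullRestr t).hom.app F)).app (op (EtCoh.top Y))))
  have hb := (ConcreteCategory.isIso_iff_bijective _).1 h1
  have hb' := (ConcreteCategory.isIso_iff_bijective (F.obj.map m.op)).1 inferInstance
  refine ⟨fun x y e => hb'.1 ((key x).symm.trans ((congrArg _ e).trans (key y))), fun z => ?_⟩
  obtain ⟨x, hx⟩ := hb'.2 (((ExtZero.pullRestr t).hom.app F).hom.app (op (EtCoh.top Y)) z)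
  exact ⟨x, hb.1 ((key x).trans hx)⟩

/-- Pulling back a section attached to a factorisation. -/
theorem secEq_pullThen (h : Z ⟶ Y) [PreservesFiniteLimits (EtCoh.pull h)] (t : Y ⟶ X) {s : Z ⟶ X}
    (w : h ≫ t = s) (F : EtCoh.Ab X) {T : X.Etale} (r : Y ⟶ T.left) (hr : r ≫ T.hom = t)
    (r' : Z ⟶ T.left) (hr' : r' ≫ T.hom = s) (e : h ≫ r = r')
    (ξ : EtCoh.H Y ((EtCoh.pull t).obj F) 0) (x : F.obj.obj (op T)) (hξ : secEq _ ξ = pvia t F r hr x) :
    secEq _ (EtLim.HpullThen h ((EtCoh.pull t).obj F)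
      (((EtCore.pullComp h t).symm ≪≫ EtCore.pullCongr w).app F).hom 0 ξ) = pvia s F r' hr' x := by
  rw [HpullThen_eq, secEq_HofPush, secEq_map, hξ]
  change ((EtCoh.pull s).obj F).obj.map (EtCore.bcTopIso h).inv.op
    ((stageψ F h t w).hom.app (op (EtCoh.top Y)) (pvia t F r hr x)) = _
  refine (congrArg _ (NatTrans.naturality_apply (stageψ F h t w).hom
    (LimCoh.lift t (T := EtCoh.top Y) r (pvia_w t hr)).op
    (((EtCoh.pullPushAdj t).unit.app F).hom.app (op T) x))).trans ?_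
  have hu := congrArg (fun a => a.hom.app (op T) x) (unit_stageψ F h t w)
  rw [pvia_apply]
  refine Eq.trans ?_ (congrArg _ hu)
  refine (Functor.map_comp_apply ((EtCoh.pull s).obj F).obj _ _ _).symm.trans ?_
  refine Eq.trans ?_ (Functor.map_comp_apply ((EtCoh.pull s).obj F).obj _ _ _)
  refine congrArg (fun l => ((EtCoh.pull s).obj F).obj.map (Quiver.Hom.op l)
    ((stageψ F h t w).hom.app (op ((EtCoh.bc t).obj T)) (((EtCoh.pullPushAdj t).unit.app F).hom.app (op T) x))) ?_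
  refine eq_comp_join h t w _ (LimCoh.lift s (T := EtCoh.top Z) r' (pvia_w s hr')) ?_
  refine Eq.trans ?_ (lift_fstB s (T := EtCoh.top _) r' (pvia_w s hr')).symm
  show ((EtCore.bcTopIso h).inv.left ≫ ((EtCoh.bc h).map _).left) ≫
    fstB h ((EtCoh.bc t).obj T) ≫ fstB t T = r'
  have h1 : ((EtCoh.bc h).map (LimCoh.lift t (T := EtCoh.top Y) r (pvia_w t hr))).left ≫
      fstB h ((EtCoh.bc t).obj T) = fstB h (EtCoh.top Y) ≫ (LimCoh.lift t (T := EtCoh.top Y) r (pvia_w t hr)).left :=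
    fstB_nat h _
  have h2 : (LimCoh.lift t (T := EtCoh.top Y) r (pvia_w t hr)).left ≫ fstB t T = r :=
    lift_fstB t (T := EtCoh.top Y) r (pvia_w t hr)
  have h3 : (EtCore.bcTopIso h).inv.left ≫ fstB h (EtCoh.top Y) = h :=
    (congrArg (_ ≫ ·) ((Category.comp_id _).symm.trans (fstB_w h (EtCoh.top Y)))).trans
      ((Category.assoc _ _ _).symm.trans ((congrArg (· ≫ h) (MorphismProperty.Over.w (EtCore.bcTopIso h).inv)).trans
        (Category.id_comp h)))
  refine (Category.assoc _ _ _).trans ?_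
  refine (congrArg (_ ≫ ·) ((Category.assoc _ _ _).symm.trans ((congrArg (· ≫ fstB t T) h1).trans
    ((Category.assoc _ _ _).trans (congrArg (_ ≫ ·) h2))))).trans ?_
  exact (Category.assoc _ _ _).symm.trans ((congrArg (· ≫ r) h3).trans e)

end Groth.L27.StalkRpush
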