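import Groth.Agent.L27.StalkRpush.Nbhd
import Groth.Agent.L27.StalkRpush.Sections
import Groth.Agent.L27.StalkRpush.ColimCompare
import Groth.Agent.L27.StalkRpush.PreComp
import Groth.Agent.L27.LimCoh.Thm
import Groth.Agent.L27.ExtZero.Cont
import Groth.Agent.L15.RightDerivedExt
import Mathlib.CategoryTheory.Limits.Preserves.Opposites

/-! # Stalks of higher direct images along a limit of affine etale neighbourhoods -/

universe u

open CategoryTheory CategoryTheory.Limits AlgebraicGeometry Opposite

set_option backward.isDefEq.respectTransparency.types false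
set_option linter.style.haveILetI false
set_option linter.unusedSectionVars false
set_option linter.unusedVariables false

namespace Groth.L27.StalkRpush

open Groth.L05.Henselization

variable {X S : Scheme.{u}} (f : X ⟶ S) (B : Type u) [CommRing B] (j : Spec (CommRingCat.of B) ⟶ S)
  [IsOpenImmersion j] (K : Type u) [Field K] [IsSepClosed K] [Algebra B K]
  (R : Type u) [CommRing R] [Algebra B R] (e : Col B K ≃ₐ[B] R)

/-- The map from a stage to `R`. -/
noncomputable abbrev toR (i : Idx B K) : i.unop.R →ₐ[B] R := e.toAlgHom.comp (ι i.unop)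

theorem toR_trans {i k : Idx B K} (g : i ⟶ k) : (toR B K R e i).comp g.unop.1 = toR B K R e k :=
  AlgHom.ext fun x => congrArg e (ι_map g.unop x)

/-- The base changes of the stages. -/
noncomputable def D : Idx B K ⥤ Scheme.{u} :=
  nb B j K ⋙ EtCoh.bc f ⋙ Scheme.Etale.forget X ⋙ CategoryTheory.Over.forget X

/-- The base change of the limit. -/
noncomputable abbrev Xbar : Scheme.{u} := pullback f (toBase B R ≫ j)

/-- The cone over the stages on the spectrum. -/
noncomputable def specCone : Cone (nb B j K ⋙ Scheme.Etale.forget S ⋙ CategoryTheory.Over.forget S) where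
  pt := Spec (CommRingCat.of R)
  π :=
    { app := fun i => Spec.map (CommRingCat.ofHom (toR B K R e i).toRingHom)
      naturality := fun i k g => (Category.id_comp _).trans (by
        show Spec.map (CommRingCat.ofHom (toR B K R e k).toRingHom) =
          Spec.map (CommRingCat.ofHom (toR B K R e i).toRingHom) ≫ trans B K g
        rw [← Spec.map_comp, ← CommRingCat.ofHom_comp]
        exact congrArg (fun q => Spec.map (CommRingCat.ofHom q))
          (congrArg AlgHom.toRingHom (toR_trans B K R e g)).symm) }

/-- The spectrum of `R` is the limit of the stages. -/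
noncomputable def isLimitSpecCone : IsLimit (specCone B j K R e) := by
  let t : Cocone (Obj.diagram (A := B) (K := K)) :=
    { pt := CommRingCat.of R
      ι := { app := fun i => CommRingCat.ofHom (toR B K R e (op i)).toRingHom
             naturality := fun i k g => (CommRingCat.hom_ext (congrArg AlgHom.toRingHom
               (toR_trans B K R e g.op))).trans (Category.comp_id _).symm } }
  have ht : IsColimit t := IsColimit.ofIsoColimit (colimit.isColimit _)
    (Cocone.ext (e.toRingEquiv.toCommRingCatIso :) fun i => rfl)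
  exact isLimitOfPreserves Scheme.Spec ht.op

/-- The comparison to a stage. -/
noncomputable def rr (i : Idx B K) :
    Xbar f B j R ⟶ ((EtCoh.bc f).obj ((nb B j K).obj i)).left :=
  pullback.lift (pullback.snd f _ ≫ (specCone B j K R e).π.app i) (pullback.fst f _) (by
    show (pullback.snd f _ ≫ Spec.map (CommRingCat.ofHom (toR B K R e i).toRingHom)) ≫ toBase B i.unop.R ≫ j = _
    rw [Category.assoc, ← Category.assoc (Spec.map _), map_toBase B (toR B K R e i)]
    exact pullback.condition.symm)

theorem rr_fst (i : Idx B K) :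
    rr f B j K R e i ≫ LimCoh.fstB f ((nb B j K).obj i) = pullback.snd f _ ≫ (specCone B j K R e).π.app i :=
  pullback.lift_fst _ _ _

theorem rr_hom (i : Idx B K) :
    rr f B j K R e i ≫ ((EtCoh.bc f).obj ((nb B j K).obj i)).hom = pullback.fst f _ :=
  pullback.lift_snd _ _ _

theorem rr_map {i k : Idx B K} (g : i ⟶ k) :
    rr f B j K R e i ≫ ((EtCoh.bc f).map ((nb B j K).map g)).left = rr f B j K R e k := by
  refine pullback.hom_ext ?_ ?_
  · refine ((Category.assoc _ _ _).trans ?_).trans (rr_fst f B j K R e k).symm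
    refine (congrArg (_ ≫ ·) (LimCoh.fstB_nat f ((nb B j K).map g))).trans ?_
    refine ((Category.assoc _ _ _).symm.trans (congrArg (· ≫ _) (rr_fst f B j K R e i))).trans ?_
    exact (Category.assoc _ _ _).trans (congrArg (_ ≫ ·) ((specCone B j K R e).w g))
  · exact ((Category.assoc _ _ _).trans ((congrArg (_ ≫ ·)
      (MorphismProperty.Over.w ((EtCoh.bc f).map ((nb B j K).map g)))).trans (rr_hom f B j K R e i))).trans
      (rr_hom f B j K R e k).symm

/-- The cone over the base changes of the stages. -/
noncomputable def cone : Cone (D f B j K) where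
  pt := Xbar f B j R
  π := { app := fun i => rr f B j K R e i
         naturality := fun i k g => (Category.id_comp _).trans (rr_map f B j K R e g).symm }

/-- The base change is the limit of the base changes of the stages. -/
noncomputable def isLimitCone : IsLimit (cone f B j K R e) := by
  let i₀ : Idx B K := (IsCofiltered.nonempty (C := Idx B K)).some
  let toX (s : Cone (D f B j K)) (i : Idx B K) : s.pt ⟶ X :=
    s.π.app i ≫ ((EtCoh.bc f).obj ((nb B j K).obj i)).hom
  have hX : ∀ (s : Cone (D f B j K)) (i : Idx B K), toX s i = toX s i₀ := fun s i => by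
    obtain ⟨k, g, g', -⟩ := IsCofilteredOrEmpty.cone_objs i i₀
    have key : ∀ {a b : Idx B K} (q : a ⟶ b), toX s b = toX s a := fun {a b} q => by
      refine (congrArg (· ≫ _) (s.w q)).symm.trans ((Category.assoc _ _ _).trans (congrArg (s.π.app a ≫ ·) ?_))
      exact MorphismProperty.Over.w ((EtCoh.bc f).map ((nb B j K).map q))
    exact (key g).trans (key g').symm
  let sp (s : Cone (D f B j K)) : Cone (nb B j K ⋙ Scheme.Etale.forget S ⋙ CategoryTheory.Over.forget S) :=
    { pt := s.pt
      π := { app := fun i => s.π.app i ≫ LimCoh.fstB f ((nb B j K).obj i)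
             naturality := fun i k g => (Category.id_comp _).trans (by
               refine Eq.trans ?_ (Category.assoc _ _ _).symm
               refine Eq.trans ?_ (congrArg (s.π.app i ≫ ·) (LimCoh.fstB_nat f ((nb B j K).map g)))
               exact ((congrArg (· ≫ _) (s.w g)).symm.trans (Category.assoc _ _ _))) } }
  have hl : ∀ (s : Cone (D f B j K)) (i : Idx B K),
      (isLimitSpecCone B j K R e).lift (sp s) ≫ (specCone B j K R e).π.app i =
        s.π.app i ≫ LimCoh.fstB f ((nb B j K).obj i) :=
    fun s i => (isLimitSpecCone B j K R e).fac (sp s) i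
  refine
    { lift := fun s => pullback.lift (toX s i₀) ((isLimitSpecCone B j K R e).lift (sp s)) ?_
      fac := fun s i => ?_
      uniq := fun s m hm => ?_ }
  · have h1 : (specCone B j K R e).π.app i₀ ≫ toBase B i₀.unop.R ≫ j = toBase B R ≫ j :=
      (Category.assoc _ _ _).symm.trans (congrArg (· ≫ j) (map_toBase B (toR B K R e i₀)))
    refine Eq.trans ?_ (congrArg (_ ≫ ·) h1)
    refine Eq.trans ?_ (Category.assoc _ _ _)
    refine Eq.trans ?_ (congrArg (· ≫ _) (hl s i₀)).symm
    refine (Category.assoc _ _ _).trans (Eq.trans ?_ (Category.assoc _ _ _).symm)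
    exact congrArg (s.π.app i₀ ≫ ·) (LimCoh.fstB_w f ((nb B j K).obj i₀)).symm
  · refine pullback.hom_ext ?_ ?_
    · refine (Category.assoc _ _ _).trans ((congrArg (_ ≫ ·) (rr_fst f B j K R e i)).trans ?_)
      refine (Category.assoc _ _ _).symm.trans ((congrArg (· ≫ _) (pullback.lift_snd _ _ _)).trans (hl s i))
    · refine (Category.assoc _ _ _).trans ((congrArg (_ ≫ ·) (rr_hom f B j K R e i)).trans ?_)
      exact (pullback.lift_fst _ _ _).trans (hX s i).symm
  · refine pullback.hom_ext ?_ ?_
    · refine Eq.trans ?_ (pullback.lift_fst _ _ _).symm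
      refine Eq.trans ?_ (congrArg (· ≫ _) (hm i₀))
      exact ((Category.assoc _ _ _).trans (congrArg (m ≫ ·) (rr_hom f B j K R e i₀))).symm
    · refine Eq.trans ?_ (pullback.lift_snd _ _ _).symm
      refine (isLimitSpecCone B j K R e).hom_ext fun i => ?_
      refine Eq.trans ?_ (hl s i).symm
      refine Eq.trans ?_ (congrArg (· ≫ _) (hm i))
      exact (Category.assoc _ _ _).trans ((congrArg (m ≫ ·) (rr_fst f B j K R e i).symm).trans
        (Category.assoc _ _ _).symm)

/-- The structure map of a stage over `X`. -/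
noncomputable abbrev tt (i : Idx B K) : (D f B j K).obj i ⟶ X := ((EtCoh.bc f).obj ((nb B j K).obj i)).hom

instance etale_tt (i : Idx B K) : Etale (tt f B j K i) := ((EtCoh.bc f).obj ((nb B j K).obj i)).prop

theorem D_w {i k : Idx B K} (g : k ⟶ i) : (D f B j K).map g ≫ tt f B j K i = tt f B j K k :=
  MorphismProperty.Over.w ((EtCoh.bc f).map ((nb B j K).map g))

variable (F : EtCoh.Ab X)

/-- The system of inverse images of a sheaf. -/
noncomputable def psys : LimCoh.PreSys (D f B j K) where
  F i := (EtCoh.pull (tt f B j K i)).obj F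
  ψ {i k} g := LimCoh.stageψ F ((D f B j K).map g) (tt f B j K i) (D_w f B j K g)
  ψ_comp {a b d} h g :=
    LimCoh.stageψ_comp F _ _ (LimCoh.map_w (D f B j K) h g) _ _ _ (D_w f B j K g) (D_w f B j K h)
      (D_w f B j K (h ≫ g))

/-- The identification on the limit. -/
noncomputable def θ (i : Idx B K) :
    (EtCoh.pull (LimCoh.prj (cone f B j K R e) i)).obj ((psys f B j K F).F i) ≅
      (EtCoh.pull (pullback.fst f (toBase B R ≫ j))).obj F :=
  ((EtCore.pullComp (rr f B j K R e i) (tt f B j K i)).symm ≪≫ EtCore.pullCongr (rr_hom f B j K R e i)).app F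

theorem θ_trans {i k : Idx B K} (g : k ⟶ i) :
    (θ f B j K R e F i).hom = (psys f B j K F).trans (cone f B j K R e) g ≫ (θ f B j K R e F k).hom := by
  refine ((EtCoh.pullPushAdj (LimCoh.prj (cone f B j K R e) i)).homEquiv _ _).injective ?_
  refine Eq.trans ?_ (LimCoh.homEquiv_trans_comp (psys f B j K F) (cone f B j K R e) g
    (θ f B j K R e F k).hom).symm
  exact LimCoh.stageψ_comp F _ _ (LimCoh.prj_w (cone f B j K R e) g) _ _ (pullback.fst f _) (D_w f B j K g)
    (rr_hom f B j K R e k) (rr_hom f B j K R e i)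

theorem isAffineHom_D {i k : Idx B K} (g : i ⟶ k) : IsAffineHom ((D f B j K).map g) := by
  have h : IsAffineHom (trans B K g) := inferInstance
  exact MorphismProperty.of_isPullback (P := @IsAffineHom)
    (EtCoh.isPullback_bc_map f ((nb B j K).map g)).flip h

variable [QuasiCompact f] [QuasiSeparated f]

instance compactSpace_D (i : Idx B K) : CompactSpace ((D f B j K).obj i) := by
  haveI : CompactSpace ↥((𝟭 Scheme.{u}).obj ((nb B j K).obj i).left) :=
    inferInstanceAs (CompactSpace (Spec (CommRingCat.of i.unop.R)))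
  exact QuasiCompact.compactSpace_of_compactSpace (X := pullback ((nb B j K).obj i).hom f)
    (pullback.fst ((nb B j K).obj i).hom f)

instance quasiSeparatedSpace_D (i : Idx B K) : QuasiSeparatedSpace ((D f B j K).obj i) := by
  haveI : QuasiSeparatedSpace ↥((𝟭 Scheme.{u}).obj ((nb B j K).obj i).left) :=
    inferInstanceAs (QuasiSeparatedSpace (Spec (CommRingCat.of i.unop.R)))
  exact quasiSeparatedSpace_of_quasiSeparated (X := pullback ((nb B j K).obj i).hom f)
    (pullback.fst ((nb B j K).obj i).hom f)

/-- Cohomology of the limit. -/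
theorem commutes (n : ℕ) [∀ i, PreservesFiniteLimits (EtCoh.pull (LimCoh.prj (cone f B j K R e) i))]
    [∀ {i k : Idx B K} (g : k ⟶ i), PreservesFiniteLimits (EtCoh.pull ((D f B j K).map g))] :
    (∀ ξ, ∃ (i : Idx B K) (a : EtCoh.H ((D f B j K).obj i) ((psys f B j K F).F i) n),
      EtLim.HpullThen (LimCoh.prj (cone f B j K R e) i) _ (θ f B j K R e F i).hom n a = ξ) ∧
    ∀ (i : Idx B K) (a : EtCoh.H ((D f B j K).obj i) ((psys f B j K F).F i) n),
      EtLim.HpullThen (LimCoh.prj (cone f B j K R e) i) _ (θ f B j K R e F i).hom n a = 0 →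
      ∃ (k : Idx B K) (g : k ⟶ i), EtLim.HpullThen ((D f B j K).map g) _ ((psys f B j K F).φ g) n a = 0 := by
  haveI : ∀ (i k : Idx B K) (g : i ⟶ k), IsAffineHom ((D f B j K).map g) := fun i k g => isAffineHom_D f B j K g
  exact (psys f B j K F).commutes_const (cone f B j K R e) (isLimitCone f B j K R e) (θ f B j K R e F)
    (fun {i k} g => θ_trans f B j K R e F g) n

include e in
/-- The inverse image of an injective sheaf is acyclic on the limit. -/
theorem subsingleton_H_of_injective [Injective F] (n : ℕ) :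
    Subsingleton (EtCoh.H (Xbar f B j R) ((EtCoh.pull (pullback.fst f (toBase B R ≫ j))).obj F) (n + 1)) := by
  haveI : ∀ i, PreservesFiniteLimits (EtCoh.pull (LimCoh.prj (cone f B j K R e) i)) := fun i =>
    EtSite.preservesFiniteLimits_pull _
  haveI : ∀ {i k : Idx B K} (g : k ⟶ i), PreservesFiniteLimits (EtCoh.pull ((D f B j K).map g)) := fun g =>
    EtSite.preservesFiniteLimits_pull _
  refine subsingleton_of_forall_eq 0 fun ξ => ?_
  obtain ⟨i, a, rfl⟩ := (commutes f B j K R e F (n + 1)).1 ξ
  haveI : EtShriek.JCont (tt f B j K i) := ExtZero.jCont _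
  haveI : Injective ((psys f B j K F).F i) := ExtZero.injective_pull _ F
  have ha : a = 0 := Abelian.Ext.eq_zero_of_injective a
  exact (congrArg _ ha).trans (map_zero _)

/-- The system of section functors of the stages. -/
noncomputable abbrev G : (Idx B K)ᵒᵖ ⥤ EtCoh.Ab X ⥤ AddCommGrpCat.{u + 1} :=
  (nb B j K ⋙ EtCoh.bc f).op ⋙ sheafSections X.smallEtaleTopology AddCommGrpCat.{u + 1}

/-- The germs. -/
noncomputable def germC : Cocone (G f B j K) where
  pt := EtCoh.push f ⋙ EtCoh.stalk (bPt B j K)
  ι :=
    { app := fun i =>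
        { app := fun F' => (Scheme.pointSmallEtale (bPt B j K)).toPresheafFiber ((nb B j K).obj i.unop)
            (pt B j K i.unop) ((EtCoh.push f).obj F').obj
          naturality := fun F' G' φ => ((Scheme.pointSmallEtale (bPt B j K)).toPresheafFiber_naturality
            ((EtCoh.push f).map φ).hom ((nb B j K).obj i.unop) (pt B j K i.unop)).symm }
      naturality := fun i k g => NatTrans.ext (funext fun F' => by
        refine Eq.trans ?_ (Category.comp_id _).symm
        refine Eq.trans ((Scheme.pointSmallEtale (bPt B j K)).toPresheafFiber_w ((nb B j K).map g.unop)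
          (pt B j K k.unop) ((EtCoh.push f).obj F').obj) ?_
        exact congrArg (fun x => (Scheme.pointSmallEtale (bPt B j K)).toPresheafFiber ((nb B j K).obj i.unop) x
          ((EtCoh.push f).obj F').obj) (map_pt B j K g.unop)) }

theorem computes_germC : Computes (germC f B j K) where
  surj F' y := by
    obtain ⟨U, x, z, rfl⟩ := (Scheme.pointSmallEtale (bPt B j K)).toPresheafFiber_jointly_surjective
      (P := ((EtCoh.push f).obj F').obj) y
    obtain ⟨i, m, hm⟩ := exists_dom B j K U x
    refine ⟨op i, ((EtCoh.push f).obj F').obj.map m.op z, ?_⟩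
    refine Eq.trans ?_ (congrArg (fun x => (Scheme.pointSmallEtale (bPt B j K)).toPresheafFiber U x
      ((EtCoh.push f).obj F').obj z) hm)
    exact (Scheme.pointSmallEtale (bPt B j K)).toPresheafFiber_w_apply m (pt B j K i) _ z
  zero F' i z hz := by
    obtain ⟨V, g, v, hv, hg⟩ := ((Scheme.pointSmallEtale (bPt B j K)).toPresheafFiber_eq_iff'
      ((nb B j K).obj i.unop) (pt B j K i.unop) z (0 : ((EtCoh.push f).obj F').obj.obj (op ((nb B j K).obj i.unop)))).1
      (hz.trans (map_zero _).symm)
    obtain ⟨k, m, hm⟩ := exists_dom B j K V v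
    obtain ⟨q, hq⟩ := exists_map B j K (m ≫ g) (by
      rw [Functor.map_comp, ConcreteCategory.comp_apply, hm, hv])
    refine ⟨op k, q.op, ?_⟩
    show ((EtCoh.push f).obj F').obj.map ((nb B j K).map q).op z = 0
    rw [hq, op_comp, Functor.map_comp, ConcreteCategory.comp_apply, hg, map_zero, map_zero]

/-- The restrictions to the limit. -/
noncomputable def limC : Cocone (G f B j K) where
  pt := EtCoh.pull (pullback.fst f (toBase B R ≫ j)) ⋙ EtCore.gsec (Xbar f B j R)
  ι :=
    { app := fun i =>
        { app := fun F' => pvia (pullback.fst f (toBase B R ≫ j)) F' (rr f B j K R e i.unop) (rr_hom f B j K R e i.unop)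
          naturality := fun F' G' φ => pvia_natural (pullback.fst f (toBase B R ≫ j)) φ _ _ }
      naturality := fun i k g => NatTrans.ext (funext fun F' =>
        (pvia_map (pullback.fst f (toBase B R ≫ j)) F' ((EtCoh.bc f).map ((nb B j K).map g.unop))
          (rr f B j K R e i.unop) (rr_hom f B j K R e i.unop) (rr f B j K R e k.unop) (rr_hom f B j K R e k.unop)
          (rr_map f B j K R e g.unop)).trans (Category.comp_id _).symm) }

theorem bijective_stage (i : Idx B K) (F' : EtCoh.Ab X) :
    Function.Bijective (pvia (tt f B j K i) F' (T := (EtCoh.bc f).obj ((nb B j K).obj i)) (𝟙 _) (Category.id_comp _)) := by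
  haveI : EtShriek.JCont (tt f B j K i) := ExtZero.jCont _
  exact @bijective_pvia _ _ ((EtCoh.bc f).obj ((nb B j K).obj i)) (tt f B j K i) _ _ F' (𝟙 _) (IsIso.id _) (Category.id_comp _)

theorem secEq_limit (F' : EtCoh.Ab X) (i : Idx B K) [PreservesFiniteLimits (EtCoh.pull (LimCoh.prj (cone f B j K R e) i))]
    (a : EtCoh.H ((D f B j K).obj i) ((psys f B j K F').F i) 0)
    (z : F'.obj.obj (op ((EtCoh.bc f).obj ((nb B j K).obj i))))
    (ha : LimCoh.secEq ((psys f B j K F').F i) a =
      pvia (tt f B j K i) F' (T := (EtCoh.bc f).obj ((nb B j K).obj i)) (𝟙 _) (Category.id_comp _) z) :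
    LimCoh.secEq ((EtCoh.pull (pullback.fst f (toBase B R ≫ j))).obj F')
        (EtLim.HpullThen (LimCoh.prj (cone f B j K R e) i) _ (θ f B j K R e F' i).hom 0 a) =
      pvia (pullback.fst f (toBase B R ≫ j)) F' (rr f B j K R e i) (rr_hom f B j K R e i) z :=
  secEq_pullThen (LimCoh.prj (cone f B j K R e) i) (tt f B j K i) (rr_hom f B j K R e i) F'
    (T := (EtCoh.bc f).obj ((nb B j K).obj i)) (𝟙 _) (Category.id_comp _) (rr f B j K R e i) (rr_hom f B j K R e i)
    (Category.comp_id _) a z ha

theorem secEq_stage (F' : EtCoh.Ab X) {i k : Idx B K} (g : k ⟶ i) [PreservesFiniteLimits (EtCoh.pull ((D f B j K).map g))]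
    (a : EtCoh.H ((D f B j K).obj i) ((psys f B j K F').F i) 0)
    (z : F'.obj.obj (op ((EtCoh.bc f).obj ((nb B j K).obj i))))
    (ha : LimCoh.secEq ((psys f B j K F').F i) a =
      pvia (tt f B j K i) F' (T := (EtCoh.bc f).obj ((nb B j K).obj i)) (𝟙 _) (Category.id_comp _) z) :
    LimCoh.secEq ((psys f B j K F').F k)
        (EtLim.HpullThen ((D f B j K).map g) _ ((psys f B j K F').φ g) 0 a) =
      pvia (tt f B j K k) F' (T := (EtCoh.bc f).obj ((nb B j K).obj k)) (𝟙 _) (Category.id_comp _)
        (F'.obj.map ((EtCoh.bc f).map ((nb B j K).map g)).op z) := by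
  have hφ : (psys f B j K F').φ g = (((EtCore.pullComp ((D f B j K).map g) (tt f B j K i)).symm ≪≫
      EtCore.pullCongr (D_w f B j K g)).app F').hom := Equiv.symm_apply_apply _ _
  refine (congrArg (fun q => LimCoh.secEq ((psys f B j K F').F k) (EtLim.HpullThen ((D f B j K).map g) _ q 0 a)) hφ).trans ?_
  refine (secEq_pullThen ((D f B j K).map g) (tt f B j K i) (D_w f B j K g) F'
    (T := (EtCoh.bc f).obj ((nb B j K).obj i)) (𝟙 _) (Category.id_comp _)
    ((D f B j K).map g) (D_w f B j K g) (Category.comp_id _) a z ha).trans ?_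
  exact congr($((pvia_map (tt f B j K k) F' ((EtCoh.bc f).map ((nb B j K).map g))
    (T := (EtCoh.bc f).obj ((nb B j K).obj i)) (T' := (EtCoh.bc f).obj ((nb B j K).obj k))
    ((D f B j K).map g) (D_w f B j K g) (𝟙 _) (Category.id_comp _) (Category.id_comp _)).symm) z)

theorem limC_surj (F' : EtCoh.Ab X) (y : (limC f B j K R e).pt.obj F') :
    ∃ (i : (Idx B K)ᵒᵖ) (z : ((G f B j K).obj i).obj F'), ((limC f B j K R e).ι.app i).app F' z = y := by
  haveI : ∀ i, PreservesFiniteLimits (EtCoh.pull (LimCoh.prj (cone f B j K R e) i)) := fun i =>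
    EtSite.preservesFiniteLimits_pull _
  haveI : ∀ {i k : Idx B K} (g : k ⟶ i), PreservesFiniteLimits (EtCoh.pull ((D f B j K).map g)) := fun g =>
    EtSite.preservesFiniteLimits_pull _
  obtain ⟨ξ, hξ⟩ := (LimCoh.secEq ((EtCoh.pull (pullback.fst f (toBase B R ≫ j))).obj F')).surjective y
  obtain ⟨i, a, ha⟩ := (commutes f B j K R e F' 0).1 ξ
  obtain ⟨z, hz⟩ := (bijective_stage f B j K i F').2 (LimCoh.secEq ((psys f B j K F').F i) a)
  exact ⟨op i, z, (secEq_limit f B j K R e F' i a z hz.symm).symm.trans
    ((congrArg (LimCoh.secEq ((EtCoh.pull (pullback.fst f (toBase B R ≫ j))).obj F')) ha).trans hξ)⟩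

theorem limC_zero (F' : EtCoh.Ab X) (i : (Idx B K)ᵒᵖ) (z : ((G f B j K).obj i).obj F')
    (hz : ((limC f B j K R e).ι.app i).app F' z = 0) :
    ∃ (k : (Idx B K)ᵒᵖ) (g : i ⟶ k), ((G f B j K).map g).app F' z = 0 := by
  haveI : ∀ i, PreservesFiniteLimits (EtCoh.pull (LimCoh.prj (cone f B j K R e) i)) := fun i =>
    EtSite.preservesFiniteLimits_pull _
  haveI : ∀ {i k : Idx B K} (g : k ⟶ i), PreservesFiniteLimits (EtCoh.pull ((D f B j K).map g)) := fun g =>
    EtSite.preservesFiniteLimits_pull _
  obtain ⟨a, ha⟩ := (LimCoh.secEq ((psys f B j K F').F i.unop)).surjective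
    (pvia (tt f B j K i.unop) F' (T := (EtCoh.bc f).obj ((nb B j K).obj i.unop)) (𝟙 _) (Category.id_comp _) z)
  have h0 : EtLim.HpullThen (LimCoh.prj (cone f B j K R e) i.unop) _ (θ f B j K R e F' i.unop).hom 0 a = 0 :=
    (LimCoh.secEq ((EtCoh.pull (pullback.fst f (toBase B R ≫ j))).obj F')).injective
      (((secEq_limit f B j K R e F' i.unop a z ha).trans hz).trans (map_zero _).symm)
  obtain ⟨k, g, hk⟩ := (commutes f B j K R e F' 0).2 i.unop a h0
  refine ⟨op k, g.op, (bijective_stage f B j K k F').1 ?_⟩
  refine Eq.trans ?_ (map_zero _).symm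
  exact (secEq_stage f B j K F' g a z ha).symm.trans
    ((congrArg (LimCoh.secEq ((psys f B j K F').F k)) hk).trans (map_zero _))

theorem computes_limC : Computes (limC f B j K R e) :=
  ⟨limC_surj f B j K R e, limC_zero f B j K R e⟩

include e in
/-- Stalks of direct images are sections over the limit. -/
theorem nonempty_stalk_push :
    Nonempty (EtCoh.push f ⋙ EtCoh.stalk (bPt B j K) ≅
      EtCoh.pull (pullback.fst f (toBase B R ≫ j)) ⋙ EtCore.gsec (Xbar f B j R)) :=
  (computes_germC f B j K).nonempty_iso (computes_limC f B j K R e)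

end Groth.L27.StalkRpush
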